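import Mathlib.RingTheory.TensorProduct.Finite
import Mathlib.LinearAlgebra.TensorProduct.RightExactness
import Mathlib.RingTheory.Finiteness.Cardinality
import Mathlib.RingTheory.Noetherian.Basic
import Mathlib.LinearAlgebra.TensorProduct.Pi

/-!
Ring maps that are bijective modulo all powers of an ideal and for which finitely generated
submodules of finite free modules are closed: consequences for base change of modules.
-/

set_option autoImplicit false
universe u

open scoped TensorProduct

namespace Groth.Agent.HensFF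

/-- `θ` is bijective modulo the powers of `J`, and finitely generated submodules of `S^b` are closed. -/
structure Cmp {R S : Type u} [CommRing R] [CommRing S] (θ : R →+* S) (J : Ideal R) : Prop where
  surj : ∀ (n : ℕ) (s : S), ∃ r, s - θ r ∈ (J.map θ) ^ n
  inj : ∀ (n : ℕ) (r : R), θ r ∈ (J.map θ) ^ n → r ∈ J ^ n
  closed : ∀ (b c : ℕ) (w : Fin c → Fin b → S) (v : Fin b → S),
    (∀ n : ℕ, ∃ s : Fin c → S, ∀ i, v i - ∑ j, s j * w j i ∈ (J.map θ) ^ n) →
      ∃ s : Fin c → S, ∀ i, v i = ∑ j, s j * w j i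

section

variable {R S : Type u} [CommRing R] [CommRing S] {θ : R →+* S} {J : Ideal R}

lemma Cmp.of_equiv (h : Cmp θ J) {R' S' : Type u} [CommRing R'] [CommRing S'] (e : R ≃+* R')
    (e' : S ≃+* S') (θ' : R' →+* S') (hc : ∀ r, θ' (e r) = e' (θ r)) :
    Cmp θ' (J.map (e : R →+* R')) := by
  have hK : ∀ n : ℕ, ((J.map (e : R →+* R')).map θ') ^ n = ((J.map θ) ^ n).map (e' : S →+* S') := fun n => by
    rw [Ideal.map_map, Ideal.map_pow, Ideal.map_map, show θ'.comp (e : R →+* R') = (e' : S →+* S').comp θ from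
      RingHom.ext hc]
  have hmem : ∀ (n : ℕ) (s : S), e' s ∈ ((J.map (e : R →+* R')).map θ') ^ n ↔ s ∈ (J.map θ) ^ n := fun n s => by
    rw [hK]
    refine ⟨fun hs => ?_, fun hs => Ideal.mem_map_of_mem _ hs⟩
    obtain ⟨t, ht, he⟩ := (Ideal.mem_map_iff_of_surjective (e' : S →+* S') e'.surjective).1 hs
    rwa [e'.injective he] at ht
  refine ⟨fun n s' => ?_, fun n r' hr => ?_, fun b c w v hv => ?_⟩
  · obtain ⟨s, rfl⟩ := e'.surjective s'
    obtain ⟨r, hr⟩ := h.surj n s
    exact ⟨e r, by rw [hc, ← map_sub, hmem]; exact hr⟩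
  · obtain ⟨r, rfl⟩ := e.surjective r'
    rw [hc, hmem] at hr
    rw [← Ideal.map_pow]
    exact Ideal.mem_map_of_mem (e : R →+* R') (h.inj n r hr)
  · obtain ⟨s, hs⟩ := h.closed b c (fun j i => e'.symm (w j i)) (fun i => e'.symm (v i)) fun n => by
      obtain ⟨s, hs⟩ := hv n
      refine ⟨fun j => e'.symm (s j), fun i => (hmem n _).1 ?_⟩
      simpa [map_sub, map_sum, map_mul] using hs i
    exact ⟨fun j => e' (s j), fun i => by simpa [map_sum, map_mul] using congrArg e' (hs i)⟩

/-- replacing the ideal by one with the same radical -/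
lemma Cmp.of_le (h : Cmp θ J) {K : Ideal R} (hK : K ≤ J) {k : ℕ} (hJ : J ^ k ≤ K) : Cmp θ K := by
  have h1 : ∀ n : ℕ, J ^ (k * n) ≤ K ^ n := fun n => by
    rw [pow_mul]; exact Ideal.pow_right_mono hJ n
  have h2 : ∀ n : ℕ, (J.map θ) ^ (k * n) ≤ (K.map θ) ^ n := fun n => by
    rw [← Ideal.map_pow, ← Ideal.map_pow]; exact Ideal.map_mono (h1 n)
  refine ⟨fun n s => ?_, fun n r hr => ?_, fun b c w v hv => h.closed b c w v fun n => ?_⟩
  · obtain ⟨r, hr⟩ := h.surj (k * n) s
    exact ⟨r, h2 n hr⟩
  · rw [← Ideal.map_pow] at hr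
    have key : ∀ z ∈ (K ^ n).map θ, ∃ r₁ ∈ K ^ n, z - θ r₁ ∈ (J.map θ) ^ (k * n) := fun z hz => by
      refine Submodule.span_induction (p := fun z _ => ∃ r₁ ∈ K ^ n, z - θ r₁ ∈ (J.map θ) ^ (k * n))
        ?_ ?_ ?_ ?_ hz
      · rintro _ ⟨a, ha, rfl⟩
        exact ⟨a, ha, by simp⟩
      · exact ⟨0, zero_mem _, by simp⟩
      · rintro x y - - ⟨a, ha, hx⟩ ⟨b, hb, hy⟩
        refine ⟨a + b, add_mem ha hb, ?_⟩
        rw [map_add, add_sub_add_comm]
        exact add_mem hx hy
      · rintro c x - ⟨a, ha, hx⟩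
        obtain ⟨r', hr'⟩ := h.surj (k * n) c
        refine ⟨r' * a, Ideal.mul_mem_left _ _ ha, ?_⟩
        rw [smul_eq_mul, map_mul, show c * x - θ r' * θ a = c * (x - θ a) + (c - θ r') * θ a by ring]
        exact add_mem (Ideal.mul_mem_left _ _ hx) (Ideal.mul_mem_right _ _ hr')
    obtain ⟨r₁, hr₁, hd⟩ := key _ hr
    rw [← map_sub] at hd
    have := h1 n (h.inj _ _ hd)
    simpa using add_mem this hr₁
  · obtain ⟨s, hs⟩ := hv n
    exact ⟨s, fun i => Ideal.pow_right_mono (Ideal.map_mono hK) n (hs i)⟩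

end

section Modules

variable {R S : Type u} [CommRing R] [CommRing S] [Algebra R S] {J : Ideal R}
  (h : Cmp (algebraMap R S) J) {M : Type u} [AddCommGroup M] [Module R M]

include h in
/-- A module killed by a power of `J` does not change. -/
lemma bijective_one_tmul (n : ℕ) (hM : ∀ r ∈ J ^ n, ∀ m : M, r • m = 0) :
    Function.Bijective (fun m : M => (1 : S) ⊗ₜ[R] m) := by
  choose r hr using h.surj n
  have huniq : ∀ (a : R) (s : S), s - algebraMap R S a ∈ (J.map (algebraMap R S)) ^ n → ∀ m : M,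
      r s • m = a • m := fun a s ha m => by
    have h0 : algebraMap R S (r s - a) ∈ (J.map (algebraMap R S)) ^ n := by
      rw [map_sub, show algebraMap R S (r s) - algebraMap R S a =
        (s - algebraMap R S a) - (s - algebraMap R S (r s)) by ring]
      exact sub_mem ha (hr s)
    rw [← sub_eq_zero, ← sub_smul]
    exact hM _ (h.inj n _ h0) m
  let B : S →ₗ[R] M →ₗ[R] M :=
    { toFun := fun s => r s • LinearMap.id
      map_add' := fun s t => LinearMap.ext fun m => by
        simp only [LinearMap.smul_apply, LinearMap.id_apply, LinearMap.add_apply, ← add_smul]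
        refine huniq _ _ ?_ m
        rw [map_add, add_sub_add_comm]
        exact add_mem (hr s) (hr t)
      map_smul' := fun c s => LinearMap.ext fun m => by
        simp only [LinearMap.smul_apply, LinearMap.id_apply, RingHom.id_apply, smul_smul]
        refine huniq _ _ ?_ m
        rw [Algebra.smul_def, map_mul, ← mul_sub]
        exact Ideal.mul_mem_left _ _ (hr s) }
  let ρ : S ⊗[R] M →ₗ[R] M := TensorProduct.lift B
  have hρ : ∀ m, ρ ((1 : S) ⊗ₜ m) = m := fun m => by
    change r 1 • m = m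
    rw [huniq 1 1 (by simp) m, one_smul]
  refine ⟨fun a b he => by rw [← hρ a, ← hρ b]; exact congrArg ρ he, fun t => ?_⟩
  induction t using TensorProduct.induction_on with
  | zero => exact ⟨0, TensorProduct.tmul_zero _ _⟩
  | add x y hx hy =>
    obtain ⟨a, rfl⟩ := hx
    obtain ⟨b, rfl⟩ := hy
    exact ⟨a + b, TensorProduct.tmul_add _ _ _⟩
  | tmul s m =>
    refine ⟨r s • m, ?_⟩
    have hz : (s - algebraMap R S (r s)) ⊗ₜ[R] m = 0 := by
      have hle : ((J ^ n).map (algebraMap R S)) ≤
          { carrier := {d | d ⊗ₜ[R] m = 0}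
            add_mem' := fun {a b} ha hb => by
              change (a + b) ⊗ₜ[R] m = 0
              rw [TensorProduct.add_tmul, ha, hb, add_zero]
            zero_mem' := TensorProduct.zero_tmul _ _
            smul_mem' := fun c d hd => by
              change (c * d) ⊗ₜ[R] m = 0
              rw [← smul_eq_mul, ← TensorProduct.smul_tmul', hd, smul_zero] } := by
        rw [Ideal.map_le_iff_le_comap]
        intro a ha
        change algebraMap R S a ⊗ₜ[R] m = 0
        rw [Algebra.algebraMap_eq_smul_one, TensorProduct.smul_tmul, hM a ha m, TensorProduct.tmul_zero]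
      exact hle (by rw [Ideal.map_pow]; exact hr s)
    change (1 : S) ⊗ₜ[R] (r s • m) = s ⊗ₜ[R] m
    rw [← TensorProduct.smul_tmul, ← Algebra.algebraMap_eq_smul_one, eq_comm, ← sub_eq_zero,
      ← TensorProduct.sub_tmul]
    exact hz

include h in
/-- The base change of a finite module is separated. -/
lemma eq_zero_of_forall_mem [IsNoetherianRing R] [Module.Finite R M] (t : S ⊗[R] M)
    (ht : ∀ n : ℕ, t ∈ ((J.map (algebraMap R S)) ^ n • ⊤ : Submodule S (S ⊗[R] M))) : t = 0 := by
  classical
  obtain ⟨b, π, hπ⟩ := Module.Finite.exists_fin' R M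
  haveI : Module.Finite R (LinearMap.ker π) := Module.Finite.iff_fg.2 (IsNoetherian.noetherian _)
  obtain ⟨c, σ, hσ⟩ := Module.Finite.exists_fin' R (LinearMap.ker π)
  let w : (Fin c → R) →ₗ[R] (Fin b → R) := (LinearMap.ker π).subtype.comp σ
  have hex : Function.Exact w π := fun z => by
    refine ⟨fun hz => ?_, ?_⟩
    · obtain ⟨a, ha⟩ := hσ ⟨z, hz⟩
      exact ⟨a, congrArg Subtype.val ha⟩
    · rintro ⟨a, rfl⟩
      exact (σ a).2
  let P : S ⊗[R] (Fin b → R) ≃ₗ[S] (Fin b → S) := TensorProduct.piScalarRight R S S (Fin b)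
  let Φ : (Fin b → S) →ₗ[S] S ⊗[R] M := (LinearMap.baseChange S π).comp P.symm.toLinearMap
  have hlt : ∀ z, LinearMap.baseChange S π z = π.lTensor S z := fun _ => rfl
  have hΦ : Function.Surjective Φ := by
    intro z
    obtain ⟨y, hy⟩ := LinearMap.lTensor_surjective S hπ z
    exact ⟨P y, by simp [Φ, hlt, hy]⟩
  let col : Fin c → Fin b → S := fun j i => algebraMap R S (w (Pi.single j 1) i)
  have hker : ∀ v, Φ v = 0 → ∃ s : Fin c → S, ∀ i, v i = ∑ j, s j * col j i := fun v hv => by
    obtain ⟨y, hy⟩ := ((lTensor_exact S hex hπ) (P.symm v)).1 hv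
    let Q : S ⊗[R] (Fin c → R) ≃ₗ[S] (Fin c → S) := TensorProduct.piScalarRight R S S (Fin c)
    refine ⟨Q y, fun i => ?_⟩
    have hv' : v = P (w.lTensor S y) := by rw [hy, LinearEquiv.apply_symm_apply]
    rw [hv']
    clear hv' hy hv
    induction y using TensorProduct.induction_on with
    | zero => simp
    | add p q hp hq => simp [map_add, hp, hq, add_mul, Finset.sum_add_distrib]
    | tmul s a =>
      have ha : a = ∑ j, a j • (Pi.single j 1 : Fin c → R) := pi_eq_sum_univ' a
      have hw : w a i = ∑ j, a j * w (Pi.single j 1) i := by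
        conv_lhs => rw [ha]
        simp [map_sum, Finset.sum_apply]
      simp only [LinearMap.lTensor_tmul, P, Q, TensorProduct.piScalarRight_apply,
        TensorProduct.piScalarRightHom_tmul, Algebra.smul_def, col]
      rw [hw, map_sum, Finset.sum_mul]
      exact Finset.sum_congr rfl fun j _ => by rw [map_mul]; ring
  obtain ⟨v, rfl⟩ := hΦ t
  obtain ⟨s, hs⟩ := h.closed b c col v fun n => by
    have hmap : ((J.map (algebraMap R S)) ^ n • ⊤ : Submodule S (S ⊗[R] M)) =
        ((J.map (algebraMap R S)) ^ n • ⊤ : Submodule S (Fin b → S)).map Φ := by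
      rw [Submodule.map_smul'', Submodule.map_top, LinearMap.range_eq_top.2 hΦ]
    obtain ⟨d, hd, hde⟩ := Submodule.mem_map.1 (hmap ▸ ht n)
    obtain ⟨s, hs⟩ := hker (v - d) (by rw [map_sub, hde, sub_self])
    refine ⟨s, fun i => ?_⟩
    rw [← hs i, Pi.sub_apply, sub_sub_cancel]
    have hle : ((J.map (algebraMap R S)) ^ n • ⊤ : Submodule S (Fin b → S)) ≤
        Submodule.comap (LinearMap.proj (R := S) (φ := fun _ : Fin b => S) i) ((J.map (algebraMap R S)) ^ n) :=
      Submodule.smul_le.2 fun r hr z _ => by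
        change r * z i ∈ (J.map (algebraMap R S)) ^ n
        exact Ideal.mul_mem_right _ _ hr
    exact hle hd
  have hcol : ∀ j, Φ (col j) = 0 := fun j => by
    have e : P ((1 : S) ⊗ₜ w (Pi.single j 1)) = col j := funext fun i => by
      simp [P, col, TensorProduct.piScalarRight_apply, Algebra.smul_def]
    rw [← e]
    simp [Φ, hex.apply_apply_eq_zero]
  rw [show v = ∑ j, s j • col j from funext fun i => by simp [hs i, Finset.sum_apply], map_sum]
  exact Finset.sum_eq_zero fun j _ => by rw [map_smul, hcol, smul_zero]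

end Modules

end Groth.Agent.HensFF
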