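import Groth.Agent.HensFF.Algebra
import Groth.Agent.HensSchLib.Flat
import Groth.Agent.Hensel.PairNoeth
import Mathlib.RingTheory.Filtration
import Mathlib.RingTheory.Localization.AtPrime.Basic

/-!
The stalk maps of affine Henselian spectra are bijective modulo powers of the ideal, and separated.
-/

set_option autoImplicit false
set_option backward.isDefEq.respectTransparency false
set_option linter.style.haveILetI false
universe u

open CategoryTheory Opposite TopologicalSpace AlgebraicGeometry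
open Groth.Agent.HensSchLib (toSt germ_secMap res_secMap isBasis_dOpen)

namespace Groth.Agent.HensFF

variable {A : Type u} [CommRing A] {J : Ideal A} {X : LocallyRingedSpace.{u}}
  {π : X ⟶ HensSch.specLRS A} (hX : HensSch.IsSph A J X π)
include hX

section Open

variable (f : A)

/-- the localised map -/
noncomputable def awayMap : Localization.Away f →+* X.presheaf.obj (op (HensSch.dOpen π f)) :=
  IsLocalization.Away.lift f (g := HensSch.secMap π (PrimeSpectrum.basicOpen f)) (hX.2.2 f).1

theorem awayMap_comp : (awayMap hX f).comp (algebraMap A (Localization.Away f)) =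
    HensSch.secMap π (PrimeSpectrum.basicOpen f) := IsLocalization.Away.lift_comp f _

theorem isPairHens : letI := (awayMap hX f).toAlgebra
    Hens2.IsPairHenselization (Localization.Away f)
      (J.map (algebraMap A (Localization.Away f))) (X.presheaf.obj (op (HensSch.dOpen π f))) := by
  letI := (awayMap hX f).toAlgebra
  obtain ⟨-, hH, hU⟩ := hX.2.2 f
  refine ⟨?_, fun C _ K g hC hg => ?_⟩
  · rw [Ideal.map_map, show (algebraMap (Localization.Away f)
      (X.presheaf.obj (op (HensSch.dOpen π f)))).comp (algebraMap A _) = _ from awayMap_comp hX f]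
    exact hH
  · obtain ⟨h, hh, hu⟩ := hU C K (g.comp (algebraMap A _)) hC (by rwa [← Ideal.map_map])
      ((IsLocalization.Away.algebraMap_isUnit (S := Localization.Away f) f).map g)
    refine ⟨h, IsLocalization.ringHom_ext (Submonoid.powers f) ?_, fun h' hh' => hu h' ?_⟩
    · rw [RingHom.comp_assoc]
      exact (congrArg h.comp (awayMap_comp hX f)).trans hh
    · have := congrArg (fun k : Localization.Away f →+* C => k.comp (algebraMap A _)) hh'
      rw [RingHom.comp_assoc] at this
      exact (congrArg h'.comp (awayMap_comp hX f)).symm.trans this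

theorem exists_approx (n : ℕ) (b : X.presheaf.obj (op (HensSch.dOpen π f))) : ∃ (a : A) (k : ℕ),
    b * HensSch.secMap π (PrimeSpectrum.basicOpen f) f ^ k - HensSch.secMap π (PrimeSpectrum.basicOpen f) a ∈
      (J ^ n).map (HensSch.secMap π (PrimeSpectrum.basicOpen f)) := by
  letI := (awayMap hX f).toAlgebra
  obtain ⟨z, hz⟩ := Hensel.pairHenselization_exists_sub_mem (isPairHens hX f) n b
  obtain ⟨⟨a, ⟨_, k, rfl⟩⟩, ha⟩ := IsLocalization.surj (Submonoid.powers f) z
  refine ⟨a, k, ?_⟩
  rw [← awayMap_comp hX f, RingHom.comp_apply, RingHom.comp_apply, ← Ideal.map_map]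
  have e : algebraMap A (Localization.Away f) a = z * algebraMap A _ f ^ k := by
    rw [← map_pow]; exact ha.symm
  rw [e, map_mul, ← map_pow (awayMap hX f), ← sub_mul, Ideal.map_pow]
  exact Ideal.mul_mem_right _ _ hz

theorem exists_pow_mul_mem (n : ℕ) (a : A)
    (ha : HensSch.secMap π (PrimeSpectrum.basicOpen f) a ∈
      (J ^ n).map (HensSch.secMap π (PrimeSpectrum.basicOpen f))) : ∃ k : ℕ, f ^ k * a ∈ J ^ n := by
  letI := (awayMap hX f).toAlgebra
  rw [← awayMap_comp hX f, RingHom.comp_apply, ← Ideal.map_map, Ideal.map_pow] at ha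
  have h := Hensel.pairHenselization_mem_pow (isPairHens hX f) ha
  rw [← Ideal.map_pow] at h
  obtain ⟨_, ⟨k, rfl⟩, hk⟩ := (IsLocalization.algebraMap_mem_map_algebraMap_iff (Submonoid.powers f) _ _ _).1 h
  exact ⟨k, hk⟩

theorem isNoetherian_sections [IsNoetherianRing A] :
    IsNoetherianRing (X.presheaf.obj (op (HensSch.dOpen π f))) := by
  letI := (awayMap hX f).toAlgebra
  haveI : IsNoetherianRing (Localization.Away f) :=
    IsLocalization.isNoetherianRing (Submonoid.powers f) _ inferInstance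
  exact Hensel.isNoetherianRing_pairHenselization (isPairHens hX f)

end Open

omit hX in
theorem dOpen_mul_le_left (f g : A) : HensSch.dOpen π (f * g) ≤ HensSch.dOpen π f := fun _ h =>
  (PrimeSpectrum.basicOpen_mul_le_left f g) h

omit hX in
theorem isUnit_toSt (x : X) {h : A} (hh : h ∉ (π.base x).asIdeal) : IsUnit (toSt π x h) := by
  rw [← germ_secMap (π := π) (U := ⊤) x trivial h]
  exact (X.toRingedSpace.mem_basicOpen (U := (Opens.map π.base).obj ⊤) _ x trivial).1 ((Groth.Agent.HensSchLib.basicOpen_secMap ⊤ h x).2 ⟨trivial, hh⟩)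

/-- germs on basic opens -/
noncomputable abbrev γ (f : A) (x : X) (hx : x ∈ HensSch.dOpen π f) :=
  (X.presheaf.germ (HensSch.dOpen π f) x hx).hom

theorem map_germ_le (f : A) (x : X) (hx : x ∈ HensSch.dOpen π f) (I : Ideal A) :
    (I.map (HensSch.secMap π (PrimeSpectrum.basicOpen f))).map (γ (π := π) f x hx) = I.map (toSt π x) := by
  rw [Ideal.map_map]
  congr 1
  exact RingHom.ext fun a => germ_secMap x hx a

/-- every element of a stalk is represented on a basic open inside a given one -/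
theorem exists_repr (x : X) (f₀ : A) (hf₀ : x ∈ HensSch.dOpen π f₀) (s : X.presheaf.stalk x) :
    ∃ (f : A) (hf : x ∈ HensSch.dOpen π f) (t : X.presheaf.obj (op (HensSch.dOpen π f))),
      HensSch.dOpen π f ≤ HensSch.dOpen π f₀ ∧ γ (π := π) f x hf t = s := by
  obtain ⟨U, hU, t, rfl⟩ := X.presheaf.exists_germ_eq s
  obtain ⟨_, ⟨f, rfl⟩, hf, hle⟩ :=
    Opens.isBasis_iff_nbhd.mp (isBasis_dOpen hX) (U := U ⊓ HensSch.dOpen π f₀) (x := x) ⟨hU, hf₀⟩
  exact ⟨f, hf, (X.presheaf.map (homOfLE (hle.trans inf_le_left)).op).hom t, hle.trans inf_le_right,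
    TopCat.Presheaf.germ_res_apply X.presheaf _ _ hf _⟩

theorem surj_toSt (x : X) (n : ℕ) (s : X.presheaf.stalk x) : ∃ a h : A, h ∉ (π.base x).asIdeal ∧
    toSt π x h * s - toSt π x a ∈ (J.map (toSt π x)) ^ n := by
  obtain ⟨f, hf, t, -, rfl⟩ := exists_repr hX x 1 (by simp [HensSch.dOpen]) s
  obtain ⟨a, k, hk⟩ := exists_approx hX f n t
  refine ⟨a, f ^ k, fun h => hf ((π.base x).isPrime.mem_of_pow_mem k h), ?_⟩
  have h' := Ideal.mem_map_of_mem (γ (π := π) f x hf) hk
  rw [map_germ_le hX f x hf] at h'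
  rw [← Ideal.map_pow]
  rw [map_sub, map_mul, map_pow] at h'
  simp only [γ, germ_secMap] at h'
  rwa [map_pow, mul_comm]

theorem exists_mul_mem_of_toSt (x : X) (n : ℕ) (a : A) (ha : toSt π x a ∈ (J.map (toSt π x)) ^ n) :
    ∃ h : A, h ∉ (π.base x).asIdeal ∧ h * a ∈ J ^ n := by
  rw [← Ideal.map_pow] at ha
  have key : ∀ z ∈ (J ^ n).map (toSt π x), ∃ (f : A) (hf : x ∈ HensSch.dOpen π f),
      ∃ t ∈ (J ^ n).map (HensSch.secMap π (PrimeSpectrum.basicOpen f)), γ (π := π) f x hf t = z := fun z hz => by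
    refine Submodule.span_induction (p := fun z _ => ∃ (f : A) (hf : x ∈ HensSch.dOpen π f),
      ∃ t ∈ (J ^ n).map (HensSch.secMap π (PrimeSpectrum.basicOpen f)), γ (π := π) f x hf t = z) ?_ ?_ ?_ ?_ hz
    · rintro _ ⟨c, hc, rfl⟩
      exact ⟨1, by simp [HensSch.dOpen], _, Ideal.mem_map_of_mem _ hc, germ_secMap x _ c⟩
    · exact ⟨1, by simp [HensSch.dOpen], 0, zero_mem _, map_zero _⟩
    · rintro z₁ z₂ - - ⟨f, hf, t, ht, rfl⟩ ⟨g, hg, t', ht', rfl⟩
      have hfg : x ∈ HensSch.dOpen π (f * g) := by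
        change π.base x ∈ PrimeSpectrum.basicOpen (f * g)
        rw [PrimeSpectrum.basicOpen_mul]; exact ⟨hf, hg⟩
      have hl : HensSch.dOpen π (f * g) ≤ HensSch.dOpen π f := dOpen_mul_le_left f g
      have hr : HensSch.dOpen π (f * g) ≤ HensSch.dOpen π g := fun _ h =>
        (PrimeSpectrum.basicOpen_mul_le_right f g) h
      refine ⟨f * g, hfg, (X.presheaf.map (homOfLE hl).op).hom t + (X.presheaf.map (homOfLE hr).op).hom t',
        add_mem ?_ ?_, ?_⟩
      · have := Ideal.mem_map_of_mem (X.presheaf.map (homOfLE hl).op).hom ht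
        rwa [Ideal.map_map, show (X.presheaf.map (homOfLE hl).op).hom.comp _ =
          HensSch.secMap π (PrimeSpectrum.basicOpen (f * g)) from RingHom.ext fun c => res_secMap hl c] at this
      · have := Ideal.mem_map_of_mem (X.presheaf.map (homOfLE hr).op).hom ht'
        rwa [Ideal.map_map, show (X.presheaf.map (homOfLE hr).op).hom.comp _ =
          HensSch.secMap π (PrimeSpectrum.basicOpen (f * g)) from RingHom.ext fun c => res_secMap hr c] at this
      · rw [map_add]
        exact congrArg₂ (· + ·) (TopCat.Presheaf.germ_res_apply X.presheaf _ _ hfg _)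
          (TopCat.Presheaf.germ_res_apply X.presheaf _ _ hfg _)
    · rintro c z - ⟨f, hf, t, ht, rfl⟩
      obtain ⟨g, hg, e, hle, rfl⟩ := exists_repr hX x f hf c
      refine ⟨g, hg, e * (X.presheaf.map (homOfLE hle).op).hom t, Ideal.mul_mem_left _ _ ?_, ?_⟩
      · have := Ideal.mem_map_of_mem (X.presheaf.map (homOfLE hle).op).hom ht
        rwa [Ideal.map_map, show (X.presheaf.map (homOfLE hle).op).hom.comp _ =
          HensSch.secMap π (PrimeSpectrum.basicOpen g) from RingHom.ext fun c => res_secMap hle c] at this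
      · rw [map_mul]
        exact congrArg₂ (· * ·) rfl (TopCat.Presheaf.germ_res_apply X.presheaf _ _ hg _)
  obtain ⟨f, hf, t, ht, he⟩ := key _ ha
  obtain ⟨W, hxW, i₁, i₂, hW⟩ := X.presheaf.germ_eq x hf hf t
    (HensSch.secMap π (PrimeSpectrum.basicOpen f) a) (he.trans (germ_secMap x hf a).symm)
  obtain ⟨_, ⟨g, rfl⟩, hg, hgW⟩ := Opens.isBasis_iff_nbhd.mp (isBasis_dOpen hX) (U := W) hxW
  have hle : HensSch.dOpen π g ≤ HensSch.dOpen π f := hgW.trans i₁.le
  have hmem : HensSch.secMap π (PrimeSpectrum.basicOpen g) a ∈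
      (J ^ n).map (HensSch.secMap π (PrimeSpectrum.basicOpen g)) := by
    have h' := Ideal.mem_map_of_mem (X.presheaf.map (homOfLE hle).op).hom ht
    rw [Ideal.map_map, show (X.presheaf.map (homOfLE hle).op).hom.comp _ =
      HensSch.secMap π (PrimeSpectrum.basicOpen g) from RingHom.ext fun c => res_secMap hle c] at h'
    rw [← res_secMap hle a]
    have e : X.presheaf.map (homOfLE hle).op = X.presheaf.map i₁.op ≫ X.presheaf.map (homOfLE hgW).op :=
      (congrArg X.presheaf.map (Subsingleton.elim _ _)).trans (X.presheaf.map_comp _ _)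
    have e' : X.presheaf.map (homOfLE hle).op = X.presheaf.map i₂.op ≫ X.presheaf.map (homOfLE hgW).op :=
      (congrArg X.presheaf.map (Subsingleton.elim _ _)).trans (X.presheaf.map_comp _ _)
    have heq : (X.presheaf.map (homOfLE hle).op).hom t =
        (X.presheaf.map (homOfLE hle).op).hom (HensSch.secMap π (PrimeSpectrum.basicOpen f) a) := by
      conv_lhs => rw [e]
      conv_rhs => rw [e']
      exact congrArg (X.presheaf.map (homOfLE hgW).op).hom hW
    rwa [← heq]
  obtain ⟨k, hk⟩ := exists_pow_mul_mem hX g n a hmem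
  exact ⟨g ^ k, fun h => hg ((π.base x).isPrime.mem_of_pow_mem k h), hk⟩

theorem mem_maximal_toSt (x : X) [IsLocalRing (X.presheaf.stalk x)] : J.map (toSt π x) ≤
    IsLocalRing.maximalIdeal (X.presheaf.stalk x) := by
  rw [Ideal.map_le_iff_le_comap]
  intro a ha
  change ¬ IsUnit (toSt π x a)
  rw [← germ_secMap (π := π) (U := ⊤) x trivial a]
  intro hu
  have h := (Groth.Agent.HensSchLib.basicOpen_secMap ⊤ a x).1 ((X.toRingedSpace.mem_basicOpen (U := (Opens.map π.base).obj ⊤) _ x trivial).2 hu)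
  have hmem : π.base x ∈ PrimeSpectrum.zeroLocus (J : Set A) := hX.2.1 ▸ ⟨x, rfl⟩
  exact h.2 (hmem ha)

/-- Finitely generated submodules of free modules over the stalk are closed. -/
theorem closed_toSt [IsNoetherianRing A] (x : X) (b c : ℕ) (w : Fin c → Fin b → X.presheaf.stalk x)
    (v : Fin b → X.presheaf.stalk x)
    (hv : ∀ n : ℕ, ∃ s : Fin c → X.presheaf.stalk x, ∀ i, v i - ∑ j, s j * w j i ∈ (J.map (toSt π x)) ^ n) :
    ∃ s : Fin c → X.presheaf.stalk x, ∀ i, v i = ∑ j, s j * w j i := by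
  classical
  haveI := X.isLocalRing x
  let val : Fin b ⊕ (Fin c × Fin b) → X.presheaf.stalk x := Sum.elim v fun p => w p.1 p.2
  have hcommon : ∀ T : Finset (Fin b ⊕ (Fin c × Fin b)), ∃ (f : A) (hf : x ∈ HensSch.dOpen π f),
      ∀ i ∈ T, ∃ t, γ (π := π) f x hf t = val i := fun T => by
    induction T using Finset.induction_on with
    | empty => exact ⟨1, by simp [HensSch.dOpen], fun i hi => absurd hi (by simp)⟩
    | insert a T ha ih =>
      obtain ⟨f, hf, hT⟩ := ih
      obtain ⟨g, hg, t, hle, ht⟩ := exists_repr hX x f hf (val a)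
      refine ⟨g, hg, fun i hi => ?_⟩
      rcases Finset.mem_insert.1 hi with rfl | hi
      · exact ⟨t, ht⟩
      · obtain ⟨t', ht'⟩ := hT i hi
        exact ⟨(X.presheaf.map (homOfLE hle).op).hom t',
          (TopCat.Presheaf.germ_res_apply X.presheaf _ _ hg _).trans ht'⟩
  obtain ⟨f, hf, hall⟩ := hcommon Finset.univ
  choose t ht using fun i => hall i (Finset.mem_univ _)
  let B : Type u := X.presheaf.obj (op (HensSch.dOpen π f))
  haveI : IsNoetherianRing B := isNoetherian_sections hX f
  let φ : A →+* B := HensSch.secMap π (PrimeSpectrum.basicOpen f)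
  let g : B →+* X.presheaf.stalk x := γ (π := π) f x hf
  have hgφ : ∀ a, g (φ a) = toSt π x a := fun a => germ_secMap x hf a
  let q : Ideal B := (IsLocalRing.maximalIdeal (X.presheaf.stalk x)).comap g
  haveI : q.IsPrime := Ideal.IsPrime.comap g
  let L : Type u := Localization.AtPrime q
  haveI : IsNoetherianRing L := IsLocalization.isNoetherianRing q.primeCompl _ inferInstance
  let ψ : L →+* X.presheaf.stalk x := IsLocalization.lift (M := q.primeCompl) (g := g) fun y =>
    IsLocalRing.notMem_maximalIdeal.1 y.2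
  have hψ : ∀ z, ψ (algebraMap B L z) = g z := fun z => IsLocalization.lift_eq _ z
  let K : Ideal L := J.map ((algebraMap B L).comp φ)
  have hKψ : ∀ n : ℕ, (K ^ n).map ψ = (J.map (toSt π x)) ^ n := fun n => by
    rw [Ideal.map_pow, Ideal.map_map, show ψ.comp ((algebraMap B L).comp φ) = toSt π x from
      RingHom.ext fun a => (hψ _).trans (hgφ a)]
  have hnmem : ∀ h : A, h ∉ (π.base x).asIdeal → φ h ∈ q.primeCompl := fun h hh hq => by
    change g (φ h) ∈ IsLocalRing.maximalIdeal _ at hq
    rw [hgφ] at hq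
    exact hq (isUnit_toSt x hh)
  -- injectivity modulo powers
  have hinj : ∀ (n : ℕ) (l : L), ψ l ∈ (J.map (toSt π x)) ^ n → l ∈ K ^ n := fun n l hl => by
    obtain ⟨⟨z, u⟩, hu⟩ := IsLocalization.surj q.primeCompl l
    refine (Ideal.mul_unit_mem_iff_mem _ (IsLocalization.map_units L u)).1 ?_
    change l * algebraMap B L u = algebraMap B L z at hu
    rw [hu]
    have hz : g z ∈ (J.map (toSt π x)) ^ n := by
      rw [← hψ, ← hu, map_mul]
      exact Ideal.mul_mem_right _ _ hl
    obtain ⟨a, k, hk⟩ := exists_approx hX f n z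
    have ha : toSt π x a ∈ (J.map (toSt π x)) ^ n := by
      have h' : g (z * φ f ^ k - φ a) ∈ (J.map (toSt π x)) ^ n := by
        rw [← Ideal.map_pow, ← map_germ_le hX f x hf]
        exact Ideal.mem_map_of_mem g hk
      rw [map_sub, map_mul, hgφ] at h'
      have h'' := sub_mem (Ideal.mul_mem_right (g (φ f ^ k)) _ hz) h'
      rwa [sub_sub_cancel] at h''
    obtain ⟨h, hh, hha⟩ := exists_mul_mem_of_toSt hX x n a ha
    have hmem : z * φ f ^ k * φ h ∈ (J ^ n).map φ := by
      rw [show z * φ f ^ k * φ h = (z * φ f ^ k - φ a) * φ h + φ (h * a) by rw [map_mul]; ring]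
      exact add_mem (Ideal.mul_mem_right _ _ hk) (Ideal.mem_map_of_mem φ hha)
    have hmem' := Ideal.mem_map_of_mem (algebraMap B L) hmem
    rw [Ideal.map_map, Ideal.map_pow, map_mul, map_mul] at hmem'
    refine (Ideal.mul_unit_mem_iff_mem _ ?_).1 ((Ideal.mul_unit_mem_iff_mem _ ?_).1 hmem')
    · rw [map_pow]
      exact (IsLocalization.map_units L (⟨φ f, hnmem f hf⟩ : q.primeCompl)).pow k
    · exact IsLocalization.map_units L (⟨φ h, hnmem h hh⟩ : q.primeCompl)
  have hsurj : ∀ (n : ℕ) (s : X.presheaf.stalk x), ∃ l : L, s - ψ l ∈ (J.map (toSt π x)) ^ n := fun n s => by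
    obtain ⟨a, h, hh, hs⟩ := surj_toSt hX x n s
    refine ⟨IsLocalization.mk' L (φ a) ⟨φ h, hnmem h hh⟩, (Ideal.unit_mul_mem_iff_mem _ (isUnit_toSt x hh)).1 ?_⟩
    have e : ψ (algebraMap B L (φ h)) * ψ (IsLocalization.mk' L (φ a) ⟨φ h, hnmem h hh⟩) = ψ (algebraMap B L (φ a)) := by
      rw [← map_mul]
      exact congrArg ψ (IsLocalization.mk'_spec' L (φ a) ⟨φ h, hnmem h hh⟩)
    rw [hψ, hψ, hgφ, hgφ] at e
    rwa [mul_sub, e]
  -- Krull intersection
  let v' : Fin b → L := fun i => algebraMap B L (t (Sum.inl i))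
  let w' : Fin c → Fin b → L := fun j i => algebraMap B L (t (Sum.inr (j, i)))
  have hv' : ∀ i, ψ (v' i) = v i := fun i => (hψ _).trans (ht _)
  have hw' : ∀ j i, ψ (w' j i) = w j i := fun j i => (hψ _).trans (ht _)
  let N : Submodule L (Fin b → L) := Submodule.span L (Set.range w')
  have hK : K ≠ ⊤ := by
    intro htop
    have h1 := Ideal.mem_map_of_mem ψ ((Ideal.eq_top_iff_one _).1 htop)
    rw [← pow_one K, hKψ, pow_one, map_one] at h1
    exact (IsLocalRing.maximalIdeal.isMaximal _).ne_top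
      ((Ideal.eq_top_iff_one _).2 (mem_maximal_toSt hX x h1))
  have hmem : ∀ n : ℕ, N.mkQ v' ∈ (K ^ n • ⊤ : Submodule L ((Fin b → L) ⧸ N)) := fun n => by
    obtain ⟨s, hs⟩ := hv n
    choose l hl using fun j => hsurj n (s j)
    have hd : ∀ i, v' i - ∑ j, l j * w' j i ∈ K ^ n := fun i => hinj n _ (by
      rw [map_sub, map_sum, hv']
      simp only [map_mul, hw']
      rw [show v i - ∑ j, ψ (l j) * w j i = (v i - ∑ j, s j * w j i) + ∑ j, (s j - ψ (l j)) * w j i by
        rw [← sub_eq_zero]; simp only [sub_mul, Finset.sum_sub_distrib]; ring]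
      exact add_mem (hs i) (Ideal.sum_mem _ fun j _ => Ideal.mul_mem_right _ _ (hl j)))
    have e : N.mkQ v' = ∑ i, (v' i - ∑ j, l j * w' j i) • N.mkQ (Pi.single i 1) := by
      simp only [← map_smul, ← map_sum]
      rw [Submodule.mkQ_apply, Submodule.mkQ_apply, Submodule.Quotient.eq,
        ← pi_eq_sum_univ' (fun i => v' i - ∑ j, l j * w' j i)]
      rw [show (v' - fun i => v' i - ∑ j, l j * w' j i) = ∑ j, l j • w' j from funext fun i => by
        simp [Finset.sum_apply]]
      exact Submodule.sum_mem _ fun j _ => Submodule.smul_mem _ _ (Submodule.subset_span ⟨j, rfl⟩)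
    rw [e]
    exact Submodule.sum_mem _ fun i _ => Submodule.smul_mem_smul (hd i) trivial
  have h0 : N.mkQ v' = 0 := by
    have := (Submodule.mem_iInf _).2 hmem
    rwa [Ideal.iInf_pow_smul_eq_bot_of_isLocalRing K hK, Submodule.mem_bot] at this
  rw [Submodule.mkQ_apply, Submodule.Quotient.mk_eq_zero] at h0
  obtain ⟨l, hl⟩ := Submodule.mem_span_range_iff_exists_fun L |>.1 h0
  refine ⟨fun j => ψ (l j), fun i => ?_⟩
  rw [← hv', ← congrFun hl i, Finset.sum_apply, map_sum]
  exact Finset.sum_congr rfl fun j _ => by rw [Pi.smul_apply, smul_eq_mul, map_mul, hw']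

/-- The stalk map of an affine Henselian spectrum. -/
theorem cmp_stalkMap [IsNoetherianRing A] (x : X) :
    Cmp (π.stalkMap x).hom (J.map (StructureSheaf.toStalk A (π.base x)).hom) := by
  let p : PrimeSpectrum A := π.base x
  let R := (HensSch.specLRS A).presheaf.stalk p
  letI : Algebra A R := StructureSheaf.stalkAlgebra A p
  haveI : IsLocalization.AtPrime R p.asIdeal := StructureSheaf.IsLocalization.to_stalk A p
  have hθ : ∀ a : A, (π.stalkMap x).hom (algebraMap A R a) = toSt π x a := fun a => by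
    rw [toSt, RingHom.comp_apply, Groth.Agent.HensSchLib.secMap_eq]
    refine Eq.trans (congrArg (π.stalkMap x).hom ?_)
      (LocallyRingedSpace.stalkMap_germ_apply π ⊤ x trivial (Groth.Agent.HensSchLib.specSec A ⊤ a))
    have e := ConcreteCategory.congr_hom
      (Scheme.toOpen_eq (R := CommRingCat.of A) (⊤ : Opens (PrimeSpectrum A))) a
    refine Eq.trans ?_ (congrArg _ e)
    rfl
  have hmap : (J.map (algebraMap A R)).map (π.stalkMap x).hom = J.map (toSt π x) := by
    rw [Ideal.map_map]; congr 1; exact RingHom.ext hθ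
  change Cmp (π.stalkMap x).hom (J.map (algebraMap A R))
  refine ⟨fun n s => ?_, fun n r hr => ?_, fun b c w v hv => closed_toSt hX x b c w v fun n => by rw [← hmap]; exact hv n⟩
  · obtain ⟨a, h, hh, hs⟩ := surj_toSt hX x n s
    refine ⟨IsLocalization.mk' R a (⟨h, hh⟩ : p.asIdeal.primeCompl),
      (Ideal.unit_mul_mem_iff_mem _ (isUnit_toSt x hh)).1 ?_⟩
    have e : (π.stalkMap x).hom (algebraMap A R h) *
        (π.stalkMap x).hom (IsLocalization.mk' R a (⟨h, hh⟩ : p.asIdeal.primeCompl)) =
        (π.stalkMap x).hom (algebraMap A R a) := by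
      rw [← map_mul]
      exact congrArg _ (IsLocalization.mk'_spec' R a (⟨h, hh⟩ : p.asIdeal.primeCompl))
    rw [hθ, hθ] at e
    rw [mul_sub, e, hmap]
    exact hs
  · rw [hmap] at hr
    obtain ⟨⟨a, u⟩, hu⟩ := IsLocalization.surj p.asIdeal.primeCompl r
    change r * algebraMap A R u = algebraMap A R a at hu
    have ha : toSt π x a ∈ (J.map (toSt π x)) ^ n := by
      rw [← hθ, ← hu, map_mul]
      exact Ideal.mul_mem_right _ _ hr
    obtain ⟨h, hh, hha⟩ := exists_mul_mem_of_toSt hX x n a ha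
    refine (Ideal.mul_unit_mem_iff_mem _ (IsLocalization.map_units R u)).1 ?_
    rw [hu, ← Ideal.map_pow, IsLocalization.algebraMap_mem_map_algebraMap_iff p.asIdeal.primeCompl]
    exact ⟨h, hh, hha⟩

end Groth.Agent.HensFF
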