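import Groth.Agent.HensFF.Chart
import Groth.Agent.W7Cech.TensorSec

/-!
The stalk maps of the `I`-adic Henselization of a scheme over `Spec A`.
-/

set_option autoImplicit false
set_option backward.isDefEq.respectTransparency false
set_option linter.style.haveILetI false
universe u

open CategoryTheory Opposite TopologicalSpace AlgebraicGeometry

namespace Groth.Agent.HensFF

variable (A : Type u) [CommRing A] {X : Scheme.{u}} [X.Over (Spec (CommRingCat.of A))]

/-- the functions of the base in a stalk -/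
noncomputable def baseSt (x : X) : A →+* X.presheaf.stalk x :=
  (X.presheaf.germ ⊤ x trivial).hom.comp (Coh.toGlobal (X ↘ Spec (CommRingCat.of A)))

theorem mem_preimage_zeroLocus_iff (I : Ideal A) (x : X) :
    x ∈ (X ↘ Spec (CommRingCat.of A)).base ⁻¹' PrimeSpectrum.zeroLocus (I : Set A) ↔
      ∀ a ∈ I, ¬ IsUnit (baseSt A x a) := by
  have key : ∀ a : A, IsUnit (baseSt A x a) ↔ a ∉ ((X ↘ Spec (CommRingCat.of A)).base x).asIdeal := fun a => by
    have h3 : X.basicOpen (Coh.toGlobal (X ↘ Spec (CommRingCat.of A)) a) =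
        (X ↘ Spec (CommRingCat.of A)) ⁻¹ᵁ PrimeSpectrum.basicOpen a := by
      rw [← basicOpen_eq_of_affine (R := CommRingCat.of A) a, Scheme.preimage_basicOpen]
      rfl
    refine Iff.trans ?_ (show x ∈ (X ↘ Spec (CommRingCat.of A)) ⁻¹ᵁ PrimeSpectrum.basicOpen a ↔ _ from Iff.rfl)
    rw [← h3]
    exact (X.mem_basicOpen (U := ⊤) _ x trivial).symm
  rw [Set.mem_preimage, PrimeSpectrum.mem_zeroLocus]
  refine ⟨fun h a ha hu => (key a).1 hu (h ha), fun h a ha => ?_⟩
  by_contra hn
  exact h a ha ((key a).2 hn)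

variable (I : Ideal A) [IsNoetherianRing A] [IsLocallyNoetherian X]

theorem cmp_stalkMap_henselization {Xh : LocallyRingedSpace.{u}} (ι : Xh ⟶ X.toLocallyRingedSpace)
    (hh : HensSch.IsHenselizationAlong X ((X ↘ Spec (CommRingCat.of A)).base ⁻¹' PrimeSpectrum.zeroLocus (I : Set A)) Xh ι)
    (y : Xh) : Cmp (ι.stalkMap y).hom (I.map (baseSt A (ι.base y))) := by
  obtain ⟨B, _, j, hj, hy, V, v, hv, π, hvr, hsq, hV⟩ := hh.2.2.2 (ι.base y) (hh.2.2.1 ▸ ⟨y, rfl⟩)
  obtain ⟨z, rfl⟩ : y ∈ Set.range v.base := by rw [hvr]; exact hy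
  haveI : IsLocallyNoetherian (Spec (CommRingCat.of B)) := isLocallyNoetherian_of_isOpenImmersion j
  haveI : IsNoetherianRing B := (isLocallyNoetherian_Spec (R := CommRingCat.of B)).1 inferInstance
  let cB : A →+* B := (Scheme.ΓSpecIso (CommRingCat.of B)).hom.hom.comp
    (j.appTop.hom.comp (Coh.toGlobal (X ↘ Spec (CommRingCat.of A))))
  -- stalks of the chart
  have hst : ∀ (q : PrimeSpectrum B) (a : A), (j.stalkMap q).hom (baseSt A (j.base q) a) =
      (StructureSheaf.toStalk B q).hom (cB a) := fun q a => by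
    refine (Scheme.Hom.germ_stalkMap_apply j ⊤ q trivial _).trans ?_
    change ((Spec (CommRingCat.of B)).presheaf.germ ⊤ q trivial).hom
      (j.appTop.hom (Coh.toGlobal (X ↘ Spec (CommRingCat.of A)) a)) = _
    have h1 : (Scheme.ΓSpecIso (CommRingCat.of B)).inv.hom (cB a) =
        j.appTop.hom (Coh.toGlobal (X ↘ Spec (CommRingCat.of A)) a) := by simp [cB]; rfl
    rw [← h1]
    rfl
  have hunit : ∀ (q : PrimeSpectrum B) (b : B), IsUnit ((StructureSheaf.toStalk B q).hom b) ↔ b ∉ q.asIdeal := fun q b =>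
    @IsLocalization.AtPrime.isUnit_to_map_iff B _ ((HensSch.specLRS B).presheaf.stalk q) _
      (StructureSheaf.stalkAlgebra B q) q.asIdeal _ (StructureSheaf.IsLocalization.to_stalk B q) b
  have hpre : j.base ⁻¹' ((X ↘ Spec (CommRingCat.of A)).base ⁻¹' PrimeSpectrum.zeroLocus (I : Set A)) =
      PrimeSpectrum.zeroLocus (I.map cB : Set B) := by
    ext q
    change j.base q ∈ (X ↘ Spec (CommRingCat.of A)).base ⁻¹' PrimeSpectrum.zeroLocus (I : Set A) ↔ _
    rw [mem_preimage_zeroLocus_iff, PrimeSpectrum.mem_zeroLocus]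
    have h1 : ∀ a : A, IsUnit (baseSt A (j.base q) a) ↔ cB a ∉ q.asIdeal := fun a => by
      rw [← hunit, ← hst]
      exact (isUnit_map_iff (j.stalkMap q).hom _).symm
    refine ⟨fun h => SetLike.coe_subset_coe.2 (Ideal.map_le_iff_le_comap.2 fun a ha => ?_),
      fun h a ha hu => (h1 a).1 hu (h (Ideal.mem_map_of_mem _ ha))⟩
    by_contra hn
    exact h a ha ((h1 a).2 hn)
  rw [hpre, PrimeSpectrum.vanishingIdeal_zeroLocus_eq_radical] at hV
  obtain ⟨k, hk⟩ := Ideal.exists_radical_pow_le_of_fg (I.map cB) (IsNoetherian.noetherian _)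
  let p : PrimeSpectrum B := π.base z
  have hcmp : Cmp (π.stalkMap z).hom ((I.map cB).map (StructureSheaf.toStalk B p).hom) :=
    (cmp_stalkMap hV z).of_le (Ideal.map_mono Ideal.le_radical) (k := k)
      (by rw [← Ideal.map_pow]; exact Ideal.map_mono hk)
  haveI : IsIso (v.stalkMap z) :=
    PresheafedSpace.IsOpenImmersion.stalk_iso v.toShHom.hom z
  haveI : IsIso (j.toLRSHom.stalkMap p) :=
    PresheafedSpace.IsOpenImmersion.stalk_iso j.toPshHom p
  have hbase : ι.base (v.base z) = j.base p :=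
    congrArg (fun g : V ⟶ X.toLocallyRingedSpace => g.base z) hsq
  let sp : X.presheaf.stalk (ι.base (v.base z)) ≅ X.presheaf.stalk (j.base p) :=
    X.presheaf.stalkCongr (Inseparable.of_eq hbase)
  let e : X.presheaf.stalk (ι.base (v.base z)) ≅ (Spec (CommRingCat.of B)).presheaf.stalk p :=
    sp ≪≫ asIso (j.stalkMap p)
  let e' : Xh.presheaf.stalk (v.base z) ≅ V.presheaf.stalk z := asIso (v.stalkMap z)
  have hcomm : ι.stalkMap (v.base z) ≫ e'.hom = e.hom ≫ π.stalkMap z := by
    change ι.stalkMap (v.base z) ≫ v.stalkMap z = (sp.hom ≫ j.stalkMap p) ≫ π.stalkMap z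
    rw [← LocallyRingedSpace.stalkMap_comp, LocallyRingedSpace.stalkMap_congr_hom _ _ hsq z,
      LocallyRingedSpace.stalkMap_comp, Category.assoc]
    rfl
  have hres := hcmp.of_equiv e.symm.commRingCatIsoToRingEquiv e'.symm.commRingCatIsoToRingEquiv
    (ι.stalkMap (v.base z)).hom fun r => by
      have h := ConcreteCategory.congr_hom hcomm (e.inv r)
      apply e'.commRingCatIsoToRingEquiv.injective
      refine h.trans ?_
      change (π.stalkMap z).hom (e.hom (e.inv r)) = e'.hom (e'.inv ((π.stalkMap z).hom r))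
      simp
  rw [Ideal.map_map, Ideal.map_map] at hres
  convert hres using 2
  refine RingHom.ext fun a => ?_
  change baseSt A (ι.base (v.base z)) a = e.inv ((StructureSheaf.toStalk B p).hom (cB a))
  apply e.commRingCatIsoToRingEquiv.injective
  change e.hom (baseSt A (ι.base (v.base z)) a) = e.hom (e.inv _)
  rw [show e.hom (e.inv ((StructureSheaf.toStalk B p).hom (cB a))) = (StructureSheaf.toStalk B p).hom (cB a) by simp,
    ← hst]
  change (j.stalkMap p).hom (sp.hom _) = _
  refine congrArg _ ?_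
  exact TopCat.Presheaf.germ_stalkSpecializes_apply X.presheaf (U := ⊤) trivial (specializes_of_eq hbase.symm) _

end Groth.Agent.HensFF
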