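import Groth.Agent.HensFF.Unit
import Groth.Agent.W7Rees.HomFull
import Groth.Agent.Devissage.Piece

/-!
Coherent modules on a proper scheme over a complete base and on its Henselization.
-/

set_option autoImplicit false
set_option backward.isDefEq.respectTransparency false
set_option backward.isDefEq.respectTransparency.types false
set_option linter.style.haveILetI false
set_option maxHeartbeats 1000000
universe u

open CategoryTheory Limits Opposite TopologicalSpace AlgebraicGeometry
open Groth.Agent.KFlat (PStalk pgerm pgerm_res exists_pgerm)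
open Groth.Agent.RSStalk (toP st pstMap_germ)

noncomputable section

namespace Groth.Agent.HensFF

theorem isProperOver_of_isClosed {X S : Scheme.{u}} (f : X ⟶ S) [IsProper f] {Z : Set X} (hZ : IsClosed Z) :
    ClSub.IsProperOver f Z :=
  ⟨hZ, inferInstance⟩

variable {A : Type u} [CommRing A] (I : Ideal A) [IsNoetherianRing A] [IsAdicComplete I A] {X : Scheme.{u}}
  [X.Over (Spec (CommRingCat.of A))] [IsProper (X ↘ Spec (CommRingCat.of A))]
  {Xh : LocallyRingedSpace.{u}} (ι : Xh ⟶ X.toLocallyRingedSpace)
  (hh : HensSch.IsHenselizationAlong X ((X ↘ Spec (CommRingCat.of A)).base ⁻¹' PrimeSpectrum.zeroLocus (I : Set A)) Xh ι)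

include hh

/-- Maps into `ι_* ι^* G` from coherent modules come from unique maps into `G`. -/
theorem bijective_comp_unit {F G : X.Modules} (hF : Coh.IsCoh F) (hG : Coh.IsCoh G) :
    Function.Bijective (fun φ : F ⟶ G => φ ≫ hη ι G) := by
  haveI : IsLocallyNoetherian X := LocallyOfFiniteType.isLocallyNoetherian (X ↘ Spec (CommRingCat.of A))
  have hs : ClSub.IsProperOver (X ↘ Spec (CommRingCat.of A)) (CohB1.support F ∩ CohB1.support G) :=
    isProperOver_of_isClosed _ ((QC.isClosed_support hF.2).inter (QC.isClosed_support hG.2))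
  let T : ∀ n : ℕ, (show X.Modules from (HensSch.pushMod ι).obj (hP ι G)) ⟶
      (show X.Modules from (HensSch.pushMod ι).obj (hP ι (Formal.modPow I n G))) := fun n =>
    (HensSch.pushMod ι).map ((HensSch.pullMod ι).map (Formal.modPowπ I n G))
  have hnat : ∀ {M N : X.Modules} (f : M ⟶ N), f ≫ hη ι N =
      hη ι M ≫ (show (show X.Modules from (HensSch.pushMod ι).obj (hP ι M)) ⟶ _ from
        (HensSch.pushMod ι).map ((HensSch.pullMod ι).map f)) := fun f => (HensSch.pullPushAdj ι).unit.naturality f
  haveI hiso : ∀ n, IsIso (hη ι (Formal.modPow I n G)) := fun n =>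
    isIso_unit I ι hh (n := n) fun a ha => W7Exist.π_smulMod I n G a ha
  have hTπ : ∀ (φ : F ⟶ G) (n : ℕ), (φ ≫ hη ι G) ≫ T n = (φ ≫ Formal.modPowπ I n G) ≫ hη ι (Formal.modPow I n G) :=
    fun φ n => by rw [Category.assoc, Category.assoc, hnat (Formal.modPowπ I n G)]
  have hTt : ∀ n, T (n + 1) ≫ (show _ ⟶ (show X.Modules from (HensSch.pushMod ι).obj (hP ι (Formal.modPow I n G))) from
      (HensSch.pushMod ι).map ((HensSch.pullMod ι).map (Formal.modPowTrans I n G))) = T n := fun n => by
    refine ((HensSch.pushMod ι).map_comp _ _).symm.trans (congrArg (HensSch.pushMod ι).map ?_)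
    rw [← Functor.map_comp, Formal.modPowπ_trans]
  refine ⟨fun φ φ' he => ?_, fun α => ?_⟩
  · obtain ⟨ψ, -, huniq⟩ := W7Rees.exists_unique_hom I hF hG hs (fun n => φ ≫ Formal.modPowπ I n G)
      fun n => by rw [Category.assoc, Formal.modPowπ_trans]
    refine (huniq φ fun n => rfl).trans (huniq φ' fun n => ?_).symm
    rw [← cancel_mono (hη ι (Formal.modPow I n G)), ← hTπ, ← hTπ]
    exact congrArg (· ≫ T n) he.symm
  · obtain ⟨φ, hφ, -⟩ := W7Rees.exists_unique_hom I hF hG hs
      (fun n => α ≫ T n ≫ inv (hη ι (Formal.modPow I n G))) fun n => by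
        simp only [Category.assoc]
        congr 1
        rw [← hTt n, Category.assoc]
        congr 1
        rw [IsIso.inv_comp_eq, ← Category.assoc, IsIso.eq_comp_inv]
        exact hnat (Formal.modPowTrans I n G)
    refine ⟨φ, ?_⟩
    have h0 : ∀ n, (φ ≫ hη ι G - α) ≫ T n = 0 := fun n => by
      rw [Preadditive.sub_comp, hTπ, hφ n, Category.assoc, Category.assoc, IsIso.inv_hom_id, Category.comp_id,
        sub_self]
    change φ ≫ hη ι G = α
    rw [← sub_eq_zero]
    generalize φ ≫ hη ι G - α = δ at h0 ⊢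
    refine Scheme.Modules.hom_ext _ _ fun U => ?_
    ext s
    change δ.app U s = 0
    refine TopCat.Presheaf.section_ext (C := AddCommGrpCat.{u})
      ⟨((toP Xh.sheaf).obj (hP ι G)).presheaf, (hP ι G).isSheaf⟩ ((Opens.map ι.base).obj U) _ _ fun y hy => ?_
    rw [map_zero]
    refine eq_zero_of_forall_π I ι hh hG y
      (pgerm ((toP Xh.sheaf).obj (hP ι G)) y ((Opens.map ι.base).obj U) hy (δ.app U s)) fun n => ?_
    refine (pstMap_germ ((toP Xh.sheaf).map ((HensSch.pullMod ι).map (Formal.modPowπ I n G))) y hy _).trans ?_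
    have := congr(($(h0 n)).app U s)
    refine (congrArg (pgerm ((toP Xh.sheaf).obj (hP ι (Formal.modPow I n G))) y ((Opens.map ι.base).obj U) hy) this).trans ?_
    exact map_zero _

theorem bijective_map {F G : X.Modules} (hF : Coh.IsCoh F) (hG : Coh.IsCoh G) :
    Function.Bijective ((HensSch.pullMod ι).map : (F ⟶ G) → ((HensSch.pullMod ι).obj F ⟶ (HensSch.pullMod ι).obj G)) := by
  let e := (HensSch.pullPushAdj ι).homEquiv F ((HensSch.pullMod ι).obj G)
  refine (Function.Bijective.of_comp_iff' e.bijective _).1 ?_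
  have he : (e ∘ fun φ : F ⟶ G => (HensSch.pullMod ι).map φ) = fun φ : F ⟶ G => φ ≫ hη ι G := funext fun φ =>
    ((HensSch.pullPushAdj ι).homEquiv_unit _ _ _).trans ((HensSch.pullPushAdj ι).unit.naturality φ).symm
  rw [he]
  exact bijective_comp_unit I ι hh hF hG

omit hh [IsNoetherianRing A] [IsAdicComplete I A] [X.Over (Spec (CommRingCat.of A))]
  [IsProper (X ↘ Spec (CommRingCat.of A))] in
/-- maps out of the structure module are global sections -/
theorem bijective_one (M : X.Modules) :
    Function.Bijective fun φ : Coh.structureModule X ⟶ M =>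
      φ.app ⊤ (show Γ(Coh.structureModule X, ⊤) from (1 : Γ(X, ⊤))) := by
  refine ⟨fun φ φ' he => (SheafOfModules.unitHomEquiv M).injective ?_, fun m => ?_⟩
  · refine Subtype.ext (funext fun U => ?_)
    have h := fun (f : Coh.structureModule X ⟶ M) =>
      (((SheafOfModules.unitHomEquiv M) f).2 (homOfLE (le_top : U.unop ≤ ⊤)).op).symm
    rw [h φ, h φ']
    exact congrArg _ he
  · let s : M.sections := ⟨fun U => M.val.map (homOfLE (le_top : U.unop ≤ ⊤)).op m, fun {U V} i => by
      change M.val.presheaf.map i (M.val.presheaf.map _ m) = M.val.presheaf.map _ m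
      rw [← ConcreteCategory.comp_apply, ← Functor.map_comp]
      rfl⟩
    refine ⟨(SheafOfModules.unitHomEquiv M).symm s, ?_⟩
    have h : ((SheafOfModules.unitHomEquiv M) ((SheafOfModules.unitHomEquiv M).symm s)).1 (op ⊤) = s.1 (op ⊤) := by
      rw [Equiv.apply_symm_apply]
    refine Eq.trans h ?_
    change M.val.presheaf.map (𝟙 _) m = m
    rw [CategoryTheory.Functor.map_id]
    rfl

theorem bijective_unit_top {F : X.Modules} (hF : Coh.IsCoh F) :
    Function.Bijective ((hη ι F).app ⊤) := by
  haveI : IsLocallyNoetherian X := LocallyOfFiniteType.isLocallyNoetherian (X ↘ Spec (CommRingCat.of A))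
  have h1 := bijective_one F
  have h2 := bijective_one (show X.Modules from (HensSch.pushMod ι).obj (hP ι F))
  have h3 := bijective_comp_unit I ι hh (Devissage.isCoh_unit X) hF
  have h4 := (h2.comp h3)
  exact (Function.Bijective.of_comp_iff ((hη ι F).app ⊤) h1).1 h4

end Groth.Agent.HensFF
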