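import Groth.Agent.RSStalk.Pull

/-!
Germs of the unit of inverse and direct image of modules.
-/

set_option backward.isDefEq.respectTransparency false
set_option backward.isDefEq.respectTransparency.types false
set_option linter.style.haveILetI false
set_option autoImplicit false
universe u

namespace Groth.Agent.HensFF

open CategoryTheory Limits Opposite TopologicalSpace
open Groth.Agent.KFlat (PStalk pgerm)
open Groth.Agent.RSStalk

variable {X : TopCat.{u}} {O_X : TopCat.Sheaf CommRingCat.{u} X} {Y : TopCat.{u}}
  {O_Y : TopCat.Sheaf CommRingCat.{u} Y} (f : X ⟶ Y)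
  (c : O_Y ⟶ ((Opens.map f).sheafPushforwardContinuous CommRingCat.{u} (Opens.grothendieckTopology Y)
    (Opens.grothendieckTopology X)).obj O_X) (x : X)

theorem pullStalkIso_germ_unit (F : ModSite.Mod O_Y) (U : Opens Y) (hU : f x ∈ U)
    (s : ((toP O_Y).obj F).obj (op U)) :
    ((pullStalkIso f c x).hom.app F).hom
      (pgerm ((toP O_X).obj ((rmor f c).pull.obj F)) x ((Opens.map f).obj U) hU
        (((rmor f c).adj.unit.app F).val.app (op U) s)) =
      ((ModuleCat.extendRestrictScalarsAdj.{u, u, u} (smap f c x).hom).unit.app ((st O_Y (f x)).obj F)).hom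
        (pgerm ((toP O_Y).obj F) (f x) U hU s) := by
  have h := Adjunction.unit_leftAdjointUniq_hom_app
    (((rmor f c).adj.comp (skyAdjunction x)).ofNatIsoRight (skyPushNatIso f c x).symm)
    ((skyAdjunction (f x)).comp (ModuleCat.extendRestrictScalarsAdj (smap f c x).hom)) F
  have h' := congrArg (fun k => k.val.app (op U) s ⟨hU⟩) h
  simp only [Adjunction.comp_unit_app, Adjunction.ofNatIsoRight] at h'
  exact h'

end Groth.Agent.HensFF
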