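import Groth.Agent.HensFF.Hens
import Groth.Agent.HensFF.PullGerm
import Groth.Agent.W7Rees.HomLoc
import Groth.Agent.W7Exist.IPow
import Groth.Agent.RefStalk.Span

/-!
Inverse images of modules on the `I`-adic Henselization: modules killed by a power of `I` do not
change, and inverse images of coherent modules are separated.
-/

set_option autoImplicit false
set_option backward.isDefEq.respectTransparency false
set_option backward.isDefEq.respectTransparency.types false
set_option linter.style.haveILetI false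
set_option maxHeartbeats 1000000
universe u

open CategoryTheory Limits Opposite TopologicalSpace AlgebraicGeometry
open Groth.Agent.KFlat (PStalk pgerm pgerm_res pgerm_smul exists_pgerm)
open Groth.Agent.RSStalk (toP st pstMap_germ pstMap pullStalkIso smap)
open scoped TensorProduct

noncomputable section

namespace Groth.Agent.HensFF

variable {A : Type u} [CommRing A] (I : Ideal A) {X : Scheme.{u}} [X.Over (Spec (CommRingCat.of A))]

/-- germs of sections of modules -/
abbrev gm (G : X.Modules) {U : X.Opens} {x : X} (hx : x ∈ U) (s : Γ(G, U)) :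
    ((st X.sheaf x).obj G : Type u) :=
  pgerm ((toP X.sheaf).obj G) x U hx s

theorem germ_secRing {U : X.Opens} {x : X} (hx : x ∈ U) (a : A) :
    (X.presheaf.germ U x hx).hom (W7Cech.secRing A U a) = baseSt A x a :=
  TopCat.Presheaf.germ_res_apply X.presheaf _ _ hx _

theorem map_baseSt (n : ℕ) (x : X) : (I ^ n).map (baseSt A x) = (I.map (baseSt A x)) ^ n :=
  Ideal.map_pow _ _ _

/-- The kernel of the projection on stalks. -/
theorem mem_of_stalk_π_eq_zero {G : X.Modules} (hG : Coh.IsQCoh G) (n : ℕ) (x : X)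
    (m : ((st X.sheaf x).obj G : Type u)) (hm : ((st X.sheaf x).map (Formal.modPowπ I n G)).hom m = 0) :
    m ∈ ((I.map (baseSt A x)) ^ n • ⊤ :
      Submodule (X.presheaf.stalk x) ((st X.sheaf x).obj G : Type u)) := by
  obtain ⟨U, hxU, s, rfl⟩ := exists_pgerm ((toP X.sheaf).obj G) x m
  have h0 : gm (Formal.modPow I n G) hxU ((Formal.modPowπ I n G).app U s) = 0 :=
    (pstMap_germ ((toP X.sheaf).map (Formal.modPowπ I n G)) x hxU s).symm.trans hm
  obtain ⟨W, hxW, i₁, i₂, hW⟩ := TopCat.Presheaf.germ_eq (Formal.modPow I n G).presheaf x hxU hxU _ 0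
    (h0.trans (map_zero _).symm)
  rw [map_zero] at hW
  obtain ⟨_, ⟨V, hV, rfl⟩, hxV, hVW⟩ := X.isBasis_affineOpens.exists_subset_of_mem_open hxW W.2
  have hVU : V ≤ U := le_trans hVW i₁.le
  have h1 : (Formal.modPowπ I n G).app V (QC.res G hVU s) = 0 := by
    rw [← QC.app_res (Formal.modPowπ I n G) hVU s]
    refine (ConcreteCategory.congr_hom ((congrArg (Formal.modPow I n G).presheaf.map (Subsingleton.elim
      (homOfLE hVU).op (i₁.op ≫ (homOfLE hVW).op))).trans ((Formal.modPow I n G).presheaf.map_comp _ _))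
      ((Formal.modPowπ I n G).app U s)).trans ?_
    exact (congrArg ((Formal.modPow I n G).presheaf.map (homOfLE hVW).op).hom hW).trans (map_zero _)
  have h2 := (W7Rees.π_app_eq_zero_iff I hG hV n _).1 h1
  rw [← show gm G hxV (QC.res G hVU s) = pgerm ((toP X.sheaf).obj G) x U hxU s from
    pgerm_res ((toP X.sheaf).obj G) x hVU hxV s]
  refine Submodule.smul_induction_on (p := fun t => gm G hxV t ∈ ((I.map (baseSt A x)) ^ n • ⊤ :
    Submodule (X.presheaf.stalk x) ((st X.sheaf x).obj G : Type u))) h2 (fun r hr t _ => ?_) fun a b ha hb => ?_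
  · change pgerm ((toP X.sheaf).obj G) x V hxV (r • t) ∈ _
    rw [show pgerm ((toP X.sheaf).obj G) x V hxV (r • t) =
      (X.presheaf.germ V x hxV).hom r • gm G hxV t from pgerm_smul ((toP X.sheaf).obj G) x hxV r t]
    refine Submodule.smul_mem_smul ?_ trivial
    have hr' := Ideal.mem_map_of_mem (X.presheaf.germ V x hxV).hom hr
    rwa [Ideal.map_pow, Ideal.map_map,
      show (X.presheaf.germ V x hxV).hom.comp (W7Cech.secRing A V) = baseSt A x from
        RingHom.ext fun a => germ_secRing hxV a] at hr'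
  · change pgerm ((toP X.sheaf).obj G) x V hxV (a + b) ∈ _
    rw [map_add]
    exact add_mem ha hb

/-- Stalks of modules killed by a power of `I`. -/
theorem smul_stalk_eq_zero {G : X.Modules} {n : ℕ} (hG : Formal.KilledBy (I ^ n) G) (x : X)
    (r : X.presheaf.stalk x) (hr : r ∈ (I.map (baseSt A x)) ^ n) (m : ((st X.sheaf x).obj G : Type u)) :
    r • m = 0 := by
  rw [← map_baseSt] at hr
  refine Submodule.span_induction (p := fun r _ => r • m = 0) ?_ (zero_smul _ _) ?_ ?_ hr
  · rintro _ ⟨a, ha, rfl⟩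
    obtain ⟨U, hxU, s, rfl⟩ := exists_pgerm ((toP X.sheaf).obj G) x m
    rw [← germ_secRing hxU a]
    refine (pgerm_smul ((toP X.sheaf).obj G) x hxU (W7Cech.secRing A U a) s).symm.trans ?_
    exact (congrArg (pgerm ((toP X.sheaf).obj G) x U hxU)
      (W7Exist.smul_eq_zero_of_killedBy hG U _ (Ideal.mem_map_of_mem _ ha) s)).trans (map_zero _)
  · intro a b _ _ ha hb
    rw [add_smul, ha, hb, add_zero]
  · intro c a _ ha
    rw [smul_eq_mul, mul_smul, ha, smul_zero]

theorem finite_stalk {G : X.Modules} (hG : CohB1.IsFT G) (x : X) :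
    Module.Finite (X.presheaf.stalk x) ((st X.sheaf x).obj G : Type u) := by
  obtain ⟨W, ι, _, s, hx, hs⟩ := RefStalk.exists_spanning_nhd hG x
  exact ⟨⟨(Set.finite_range _).toFinset, by rw [Set.Finite.coe_toFinset]; exact hs x hx⟩⟩

section Hens

variable [IsNoetherianRing A] [IsLocallyNoetherian X] {Xh : LocallyRingedSpace.{u}} (ι : Xh ⟶ X.toLocallyRingedSpace)
  (hh : HensSch.IsHenselizationAlong X ((X ↘ Spec (CommRingCat.of A)).base ⁻¹' PrimeSpectrum.zeroLocus (I : Set A)) Xh ι)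

/-- the inverse image -/
abbrev hP (G : X.Modules) : ModSite.Mod Xh.sheaf := (HensSch.pullMod ι).obj G

/-- the unit -/
abbrev hη (G : X.Modules) : G ⟶ (show X.Modules from (HensSch.pushMod ι).obj (hP ι G)) :=
  (HensSch.pullPushAdj ι).unit.app G

omit [IsNoetherianRing A] [IsLocallyNoetherian X] [X.Over (Spec (CommRingCat.of A))] in
/-- germs of the unit -/
theorem L_germ (G : X.Modules) (y : Xh) {U : X.Opens} (hU : ι.base y ∈ U) (s : Γ(G, U)) :
    ((pullStalkIso (O_X := Xh.sheaf) (O_Y := X.sheaf) ι.base ⟨ι.c⟩ y).hom.app G).hom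
      (pgerm ((toP Xh.sheaf).obj (hP ι G)) y ((Opens.map ι.base).obj U) hU ((hη ι G).app U s)) =
      ((ModuleCat.extendRestrictScalarsAdj.{u, u, u} (smap (O_X := Xh.sheaf) (O_Y := X.sheaf) ι.base ⟨ι.c⟩ y).hom).unit.app
        ((st X.sheaf (ι.base y)).obj G)).hom (gm G hU s) :=
  pullStalkIso_germ_unit (O_X := Xh.sheaf) (O_Y := X.sheaf) ι.base ⟨ι.c⟩ y G U hU s

include hh

theorem bijective_unit_stalk {G : X.Modules} {n : ℕ} (hG : Formal.KilledBy (I ^ n) G) (y : Xh) :
    Function.Bijective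
      ((ModuleCat.extendRestrictScalarsAdj.{u, u, u} (smap (O_X := Xh.sheaf) (O_Y := X.sheaf) ι.base ⟨ι.c⟩ y).hom).unit.app
        ((st X.sheaf (ι.base y)).obj G)).hom := by
  letI : Algebra (X.presheaf.stalk (ι.base y)) (Xh.presheaf.stalk y) := (ι.stalkMap y).hom.toAlgebra
  have h : Cmp (algebraMap (X.presheaf.stalk (ι.base y)) (Xh.presheaf.stalk y)) _ :=
    cmp_stalkMap_henselization A I ι hh y
  exact bijective_one_tmul h (M := ((st X.sheaf (ι.base y)).obj G : Type u)) n fun r hr m =>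
    smul_stalk_eq_zero I hG _ r hr m

theorem injective_unit {G : X.Modules} {n : ℕ} (hG : Formal.KilledBy (I ^ n) G) (U : X.Opens) (s : Γ(G, U))
    (hs : (hη ι G).app U s = 0) : s = 0 := by
  refine TopCat.Presheaf.section_ext (QC.abSheaf G) U _ _ fun x hx => ?_
  rw [map_zero]
  by_cases hxY : x ∈ (X ↘ Spec (CommRingCat.of A)).base ⁻¹' PrimeSpectrum.zeroLocus (I : Set A)
  · obtain ⟨y, rfl⟩ := hh.2.2.1.symm ▸ hxY
    refine (bijective_unit_stalk I ι hh hG y).1 ?_
    rw [map_zero]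
    refine (L_germ ι G y hx s).symm.trans ?_
    rw [hs]
    erw [map_zero, map_zero]
  · rw [mem_preimage_zeroLocus_iff] at hxY
    push Not at hxY
    obtain ⟨a, ha, hu⟩ := hxY
    change gm G hx s = 0
    refine (hu.pow n).smul_eq_zero.1 (smul_stalk_eq_zero I hG x _ ?_ _)
    exact Ideal.pow_mem_pow (Ideal.mem_map_of_mem _ ha) n

theorem surjective_unit {G : X.Modules} {n : ℕ} (hG : Formal.KilledBy (I ^ n) G) (U : X.Opens)
    (τ : Γ((show X.Modules from (HensSch.pushMod ι).obj (hP ι G)), U)) :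
    ∃ s, (hη ι G).app U s = τ := by
  classical
  have key : ∀ x : U, ∃ (W : X.Opens) (hW : W ≤ U) (g : Γ(G, W)), (x : X) ∈ W ∧
      (hη ι G).app W g = QC.res _ hW τ := fun ⟨x, hx⟩ => by
    by_cases hxY : x ∈ (X ↘ Spec (CommRingCat.of A)).base ⁻¹' PrimeSpectrum.zeroLocus (I : Set A)
    · obtain ⟨y, rfl⟩ := hh.2.2.1.symm ▸ hxY
      obtain ⟨m, hm⟩ := (bijective_unit_stalk I ι hh hG y).2
        (((pullStalkIso (O_X := Xh.sheaf) (O_Y := X.sheaf) ι.base ⟨ι.c⟩ y).hom.app G).hom
          (pgerm ((toP Xh.sheaf).obj (hP ι G)) y ((Opens.map ι.base).obj U) hx τ))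
      obtain ⟨W₀, hyW₀, g, rfl⟩ := exists_pgerm ((toP X.sheaf).obj G) (ι.base y) m
      let W₁ : X.Opens := W₀ ⊓ U
      have hy₁ : ι.base y ∈ W₁ := ⟨hyW₀, hx⟩
      let g₁ : Γ(G, W₁) := QC.res G (inf_le_left : W₁ ≤ W₀) g
      let τ₁ := QC.res _ (inf_le_right : W₁ ≤ U) τ
      have he : pgerm ((toP Xh.sheaf).obj (hP ι G)) y ((Opens.map ι.base).obj W₁) hy₁ ((hη ι G).app W₁ g₁) =
          pgerm ((toP Xh.sheaf).obj (hP ι G)) y ((Opens.map ι.base).obj W₁) hy₁ τ₁ := by
        apply ((pullStalkIso (O_X := Xh.sheaf) (O_Y := X.sheaf) ι.base ⟨ι.c⟩ y).app G).toLinearEquiv.injective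
        refine (L_germ ι G y hy₁ g₁).trans ?_
        have eg : gm G hy₁ g₁ = pgerm ((toP X.sheaf).obj G) (ι.base y) W₀ hyW₀ g :=
          pgerm_res ((toP X.sheaf).obj G) (ι.base y) inf_le_left hy₁ g
        rw [eg]
        refine hm.trans (congrArg _ ?_)
        exact (pgerm_res ((toP Xh.sheaf).obj (hP ι G)) y
          (show (Opens.map ι.base).obj W₁ ≤ (Opens.map ι.base).obj U from fun z hz => hz.2) hy₁ τ).symm
      obtain ⟨V, hyV, i₁, i₂, hV⟩ := TopCat.Presheaf.germ_eq ((toP Xh.sheaf).obj (hP ι G)).presheaf y hy₁ hy₁ _ _ he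
      obtain ⟨O, hO, hOV⟩ := hh.2.1.isInducing.isOpen_iff.1 V.2
      let W : X.Opens := W₁ ⊓ ⟨O, hO⟩
      refine ⟨W, inf_le_left.trans inf_le_right, QC.res G (inf_le_left : W ≤ W₁) g₁,
        ⟨hy₁, show y ∈ ι.base ⁻¹' O by rw [hOV]; exact hyV⟩, ?_⟩
      rw [← QC.app_res, ← QC.res_res _ (inf_le_left : W ≤ W₁) (inf_le_right : W₁ ≤ U) τ]
      have hle : (Opens.map ι.base).obj W ≤ V := fun z hz => by
        change z ∈ V.carrier
        rw [← hOV]
        exact hz.2
      have hsub : ∀ (i : V ⟶ (Opens.map ι.base).obj W₁),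
          ((Opens.map ι.base).map (homOfLE (inf_le_left : W ≤ W₁))).op = i.op ≫ (homOfLE hle).op :=
        fun i => Subsingleton.elim _ _
      refine (ConcreteCategory.congr_hom ((congrArg ((toP Xh.sheaf).obj (hP ι G)).presheaf.map (hsub i₁)).trans
        (((toP Xh.sheaf).obj (hP ι G)).presheaf.map_comp _ _)) ((hη ι G).app W₁ g₁)).trans ?_
      refine Eq.trans ?_ (ConcreteCategory.congr_hom ((congrArg ((toP Xh.sheaf).obj (hP ι G)).presheaf.map (hsub i₂)).trans
        (((toP Xh.sheaf).obj (hP ι G)).presheaf.map_comp _ _)) τ₁).symm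
      exact congrArg (((toP Xh.sheaf).obj (hP ι G)).presheaf.map (homOfLE hle).op).hom hV
    · let W : X.Opens := U ⊓ ⟨_, hh.1.isOpen_compl⟩
      refine ⟨W, inf_le_left, 0, ⟨hx, hxY⟩, ?_⟩
      haveI : Subsingleton Γ((show X.Modules from (HensSch.pushMod ι).obj (hP ι G)), W) := by
        have hbot : (Opens.map ι.base).obj W = ⊥ := le_bot_iff.1 fun z hz =>
          absurd (hh.2.2.1 ▸ Set.mem_range_self z) hz.2
        refine ⟨fun a b => ?_⟩
        exact TopCat.Presheaf.section_ext (C := AddCommGrpCat.{u})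
          ⟨((toP Xh.sheaf).obj (hP ι G)).presheaf, (hP ι G).isSheaf⟩ ((Opens.map ι.base).obj W) a b fun z hz => by
            rw [hbot] at hz
            exact hz.elim
      exact Subsingleton.elim _ _
  choose W hW g hxW hg using key
  obtain ⟨s, hs, -⟩ := TopCat.Sheaf.existsUnique_gluing' (QC.abSheaf G) W U (fun x => homOfLE (hW x))
    (fun x hx => Opens.mem_iSup.2 ⟨⟨x, hx⟩, hxW ⟨x, hx⟩⟩) g fun a b => by
      change QC.res G (inf_le_left : W a ⊓ W b ≤ W a) (g a) = QC.res G (inf_le_right : W a ⊓ W b ≤ W b) (g b)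
      refine sub_eq_zero.1 (injective_unit I ι hh hG _ _ ?_)
      rw [map_sub, ← QC.app_res, ← QC.app_res, hg, hg, QC.res_res, QC.res_res, sub_self]
  refine ⟨s, QC.section_eq_of_locally fun x hx => ⟨W ⟨x, hx⟩, hW _, hxW _, ?_⟩⟩
  rw [QC.app_res, show QC.res G (hW ⟨x, hx⟩) s = g ⟨x, hx⟩ from hs _, hg]

/-- Modules killed by a power of `I` do not change. -/
theorem isIso_unit {G : X.Modules} {n : ℕ} (hG : Formal.KilledBy (I ^ n) G) : IsIso (hη ι G) := by
  rw [Scheme.Modules.Hom.isIso_iff_isIso_app]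
  intro U
  refine (ConcreteCategory.isIso_iff_bijective _).2 ⟨(injective_iff_map_eq_zero _).2 fun s hs => ?_,
    fun τ => surjective_unit I ι hh hG U τ⟩
  exact injective_unit I ι hh hG U s hs

theorem mem_of_map_π_eq_zero {G : X.Modules} (hG : Coh.IsQCoh G) (n : ℕ) (y : Xh)
    (t : ((ModuleCat.extendScalars.{u, u, u} (smap (O_X := Xh.sheaf) (O_Y := X.sheaf) ι.base ⟨ι.c⟩ y).hom).obj
      ((st X.sheaf (ι.base y)).obj G) : Type u))
    (ht : ((ModuleCat.extendScalars.{u, u, u} (smap (O_X := Xh.sheaf) (O_Y := X.sheaf) ι.base ⟨ι.c⟩ y).hom).map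
      ((st X.sheaf (ι.base y)).map (Formal.modPowπ I n G))).hom t = 0) :
    t ∈ (((I.map (baseSt A (ι.base y))).map (smap (O_X := Xh.sheaf) (O_Y := X.sheaf) ι.base ⟨ι.c⟩ y).hom :
        Ideal ((RSStalk.rg Xh.sheaf).stalk y)) ^ n • ⊤ :
      Submodule ((RSStalk.rg Xh.sheaf).stalk y) _) := by
  letI : Algebra ((RSStalk.rg X.sheaf).stalk (ι.base y)) ((RSStalk.rg Xh.sheaf).stalk y) := (ι.stalkMap y).hom.toAlgebra
  let g := ((st X.sheaf (ι.base y)).map (Formal.modPowπ I n G)).hom
  haveI hepi : Epi (Formal.modPowπ I n G) := inferInstance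
  haveI : Epi ((st X.sheaf (ι.base y)).map (Formal.modPowπ I n G)) := by
    haveI : PreservesColimitsOfSize.{0, 0} (st X.sheaf (ι.base y)) :=
      preservesSmallestColimits_of_preservesColimits _
    infer_instance
  have hg : Function.Surjective g := (ModuleCat.epi_iff_surjective _).1 inferInstance
  have hex : Function.Exact (LinearMap.ker g).subtype g := LinearMap.exact_subtype_ker_map g
  obtain ⟨v, rfl⟩ := ((lTensor_exact ((RSStalk.rg Xh.sheaf).stalk y) hex hg) t).1 ht
  clear ht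
  induction v using TensorProduct.induction_on with
  | zero => rw [map_zero]; exact zero_mem _
  | add a b ha hb => rw [map_add]; exact add_mem ha hb
  | tmul s k =>
    have hk := mem_of_stalk_π_eq_zero I hG n (ι.base y) k.1 k.2
    change s ⊗ₜ[(RSStalk.rg X.sheaf).stalk (ι.base y)] (k : ((st X.sheaf (ι.base y)).obj G : Type u)) ∈ _
    refine Submodule.smul_induction_on hk (fun r hr m _ => ?_) fun a b ha hb => ?_
    · rw [← TensorProduct.smul_tmul (R := (RSStalk.rg X.sheaf).stalk (ι.base y))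
          (R' := (RSStalk.rg X.sheaf).stalk (ι.base y)) r s m, Algebra.smul_def, ← smul_eq_mul,
        ← TensorProduct.smul_tmul' (algebraMap ((RSStalk.rg X.sheaf).stalk (ι.base y)) ((RSStalk.rg Xh.sheaf).stalk y) r) s m]
      have hr' : (smap (O_X := Xh.sheaf) (O_Y := X.sheaf) ι.base ⟨ι.c⟩ y).hom r ∈
          ((I.map (baseSt A (ι.base y))).map (smap (O_X := Xh.sheaf) (O_Y := X.sheaf) ι.base ⟨ι.c⟩ y).hom :
            Ideal ((RSStalk.rg Xh.sheaf).stalk y)) ^ n := by
        rw [← Ideal.map_pow]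
        exact Ideal.mem_map_of_mem _ hr
      exact Submodule.smul_mem_smul hr' (Submodule.mem_top)
    · rw [TensorProduct.tmul_add]
      exact add_mem ha hb

/-- A map into the inverse image of a coherent module is zero if all its reductions are. -/
theorem eq_zero_of_forall_π {G : X.Modules} (hG : Coh.IsCoh G) (y : Xh)
    (t : ((st Xh.sheaf y).obj (hP ι G) : Type u))
    (ht : ∀ n, ((st Xh.sheaf y).map ((HensSch.pullMod ι).map (Formal.modPowπ I n G))).hom t = 0) : t = 0 := by
  letI : Algebra (X.presheaf.stalk (ι.base y)) (Xh.presheaf.stalk y) := (ι.stalkMap y).hom.toAlgebra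
  haveI := finite_stalk (G := G) hG.2 (ι.base y)
  haveI : IsNoetherianRing (X.presheaf.stalk (ι.base y)) := inferInstance
  let L := pullStalkIso (O_X := Xh.sheaf) (O_Y := X.sheaf) ι.base ⟨ι.c⟩ y
  apply (L.app G).toLinearEquiv.injective
  rw [map_zero]
  refine eq_zero_of_forall_mem (h := (cmp_stalkMap_henselization A I ι hh y : Cmp (algebraMap (X.presheaf.stalk (ι.base y)) (Xh.presheaf.stalk y)) _))
    (M := ((st X.sheaf (ι.base y)).obj G : Type u)) _ fun n => ?_
  refine mem_of_map_π_eq_zero I ι hh hG.1 n y _ ?_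
  refine (ConcreteCategory.congr_hom (L.hom.naturality (Formal.modPowπ I n G)) t).symm.trans ?_
  exact (congrArg (L.hom.app (Formal.modPow I n G)).hom (ht n)).trans (map_zero _)

end Hens

end Groth.Agent.HensFF
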